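import Groth.Agent.Theta52.Basic

/-! Stone–von Neumann for finite Heisenberg extensions. -/

set_option autoImplicit false
set_option linter.unusedSectionVars false
set_option linter.style.haveILetI false

universe u v

namespace Groth.Agent.Theta52

variable {k : Type u} [Field k] {Γ : Type u} [Group Γ] {ι : kˣ →* Γ}

theorem cast_ne_zero {n : ℕ} (h0 : n ≠ 0) (h : n.Coprime (ringExpChar k)) : (n : k) ≠ 0 := by
  intro hn
  rcases CharP.char_is_prime_or_zero k (ringChar k) with hp | hp
  · have he : ringExpChar k = ringChar k := by rw [ringExpChar]; exact max_eq_left hp.one_lt.le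
    rw [he] at h
    exact hp.coprime_iff_not_dvd.1 h.symm ((ringChar.spec k n).1 hn)
  · haveI : CharZero k := by
      haveI : CharP k 0 := hp ▸ ringChar.charP k
      exact CharP.charP_to_charZero k
    exact h0 (Nat.cast_eq_zero.1 hn)

theorem exists_level (hι : Function.Injective ι) (hcent : ι.range = Subgroup.center Γ)
    (hcomm : commutator Γ ≤ ι.range) [Finite (Γ ⧸ ι.range)] : ∃ H, Level ι H := by
  classical
  haveI : (ι.range).Normal := hcent ▸ inferInstance
  let π := QuotientGroup.mk' ι.range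
  obtain ⟨U, ⟨H, hH, rfl⟩, hU⟩ := Set.Finite.exists_maximal
    (s := {U : Subgroup (Γ ⧸ ι.range) | ∃ H : Subgroup Γ, H ⊓ ι.range = ⊥ ∧ H.map π = U}) (Set.toFinite _)
    ⟨_, ⊥, bot_inf_eq _, rfl⟩
  refine ⟨H, hι, hcent, hcomm, hH, fun H' hH' hle => le_antisymm (fun x hx => ?_) hle⟩
  obtain ⟨h, hh, hxh⟩ := hU ⟨H', hH', rfl⟩ (Subgroup.map_mono hle) ⟨x, hx, rfl⟩
  have : h⁻¹ * x ∈ H' ⊓ ι.range := Subgroup.mem_inf.2 ⟨mul_mem (inv_mem (hle hh)) hx, QuotientGroup.eq.1 hxh⟩
  rw [hH', Subgroup.mem_bot, inv_mul_eq_one] at this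
  exact this ▸ hh

variable {H : Subgroup Γ}

/-- `|H|·[Γ:H·kˣ] = |Γ/kˣ|` -/
theorem card_mul_index (L : Level ι H) [Finite (Γ ⧸ ι.range)] :
    Nat.card H * Nat.card (Γ ⧸ big H ι L) = Nat.card (Γ ⧸ ι.range) := by
  haveI : (ι.range).Normal := L.cent ▸ inferInstance
  have hbij : Function.Bijective (fun h : H => (((⟨(h : Γ), mem_big_of_mem L h.2⟩ : big H ι L)) :
      big H ι L ⧸ ι.range.subgroupOf (big H ι L))) := by
    constructor
    · intro a b hab
      have h1 : (a : Γ)⁻¹ * b ∈ H ⊓ ι.range := Subgroup.mem_inf.2 ⟨mul_mem (inv_mem a.2) b.2, by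
        simpa using Subgroup.mem_subgroupOf.1 (QuotientGroup.eq.1 hab)⟩
      rw [L.disj, Subgroup.mem_bot, inv_mul_eq_one] at h1
      exact Subtype.ext h1
    · intro q
      induction q using QuotientGroup.induction_on with
      | _ y =>
        obtain ⟨h, hh, z, hz⟩ := y.2
        refine ⟨⟨h, hh⟩, QuotientGroup.eq.2 (Subgroup.mem_subgroupOf.2 ⟨z, ?_⟩)⟩
        simp [hz]
  rw [Nat.card_eq_of_bijective _ hbij, ← Subgroup.index_eq_card, ← Subgroup.index_eq_card, ← Subgroup.index_eq_card]
  exact Subgroup.relIndex_mul_index (range_le_big L)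

theorem card_facts [IsAlgClosed k] (L : Level ι H) [Finite (Γ ⧸ ι.range)] [Fintype H] [Fintype (Γ ⧸ big H ι L)]
    (hcop : (Nat.card (Γ ⧸ ι.range)).Coprime (ringExpChar k)) :
    (Fintype.card H : k) ≠ 0 ∧ (Fintype.card (Γ ⧸ big H ι L) : k) ≠ 0 ∧
      Fintype.card (Γ ⧸ big H ι L) ^ 2 = Nat.card (Γ ⧸ ι.range) := by
  have hK : (Nat.card (Γ ⧸ ι.range) : k) ≠ 0 := cast_ne_zero Nat.card_pos.ne' hcop
  have hm := card_mul_index L
  rw [Nat.card_eq_fintype_card, Nat.card_eq_fintype_card (α := Γ ⧸ big H ι L)] at hm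
  rw [← hm, Nat.cast_mul] at hK
  have h1 := left_ne_zero_of_mul hK
  have h2 := right_ne_zero_of_mul hK
  exact ⟨h1, h2, by rw [sq, ← hm, card_H_eq_index L h1 h2]⟩

section rep

variable [IsAlgClosed k] (L : Level ι H) [Finite (Γ ⧸ ι.range)] [Fintype H] [Fintype (Γ ⧸ big H ι L)]
  (hH : (Fintype.card H : k) ≠ 0) (hQ : (Fintype.card (Γ ⧸ big H ι L) : k) ≠ 0)

include hH hQ

theorem finrank_eq {W : Type v} [AddCommGroup W] [Module k W] [FiniteDimensional k W] (ρ : Representation k Γ W)
    (hw1 : ∀ (z : kˣ) (w : W), ρ (ι z) w = (z : k) • w) :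
    Module.finrank k W = Fintype.card (Γ ⧸ big H ι L) *
      Module.finrank k (Representation.invariants (ρ.comp H.subtype)) := by
  rw [← (LinearEquiv.ofBijective _ (assemble_bijective L ρ hw1 hH hQ)).finrank_eq, Module.finrank_pi_fintype,
    Finset.sum_const, Finset.card_univ, smul_eq_mul]

theorem exists_invariant {W : Type v} [AddCommGroup W] [Module k W] [FiniteDimensional k W] (ρ : Representation k Γ W)
    (hw1 : ∀ (z : kˣ) (w : W), ρ (ι z) w = (z : k) • w) [Nontrivial W] :
    ∃ w : W, w ≠ 0 ∧ ∀ h : H, ρ (h : Γ) w = w := by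
  by_contra hcon
  push Not at hcon
  have hb : Representation.invariants (ρ.comp H.subtype) = ⊥ := eq_bot_iff.2 fun w hw => by
    by_contra h0
    obtain ⟨h, hh⟩ := hcon w h0
    exact hh (hw h)
  have := finrank_eq L hH hQ ρ hw1
  rw [hb, finrank_bot, mul_zero] at this
  exact absurd this Module.finrank_pos.ne'

theorem gen_eq_top_and_finrank {V : Type v} [AddCommGroup V] [Module k V] [FiniteDimensional k V]
    (ρ : Representation k Γ V) (hw1 : ∀ (z : kˣ) (w : V), ρ (ι z) w = (z : k) • w) [ρ.IsIrreducible]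
    (v : V) (hv : v ≠ 0) (hinv : ∀ h : H, ρ (h : Γ) v = v) :
    gen L ρ hw1 v hinv = ⊤ ∧ Module.finrank k V = Fintype.card (Γ ⧸ big H ι L) := by
  have htop : gen L ρ hw1 v hinv = ⊤ := (IsSimpleOrder.eq_bot_or_eq_top _).resolve_left fun h0 => hv (by
    have := mem_gen L ρ hw1 v hinv
    rw [h0] at this
    exact (Submodule.mem_bot k).1 this)
  refine ⟨htop, le_antisymm ?_ ?_⟩
  · have : Module.finrank k V = Module.finrank k (gen L ρ hw1 v hinv).toSubmodule := by
      rw [htop]; exact (finrank_top k V).symm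
    rw [this]
    exact finrank_range_le_card _
  · rw [finrank_eq L hH hQ ρ hw1]
    refine Nat.le_mul_of_pos_right _ (Module.finrank_pos_iff.2 ?_)
    exact ⟨⟨v, hinv⟩, 0, fun h0 => hv (congrArg Subtype.val h0)⟩

theorem finrank_irreducible {V : Type v} [AddCommGroup V] [Module k V] [FiniteDimensional k V]
    (ρ : Representation k Γ V) (hw1 : ∀ (z : kˣ) (w : V), ρ (ι z) w = (z : k) • w) [ρ.IsIrreducible] :
    Module.finrank k V = Fintype.card (Γ ⧸ big H ι L) := by
  haveI : Nontrivial V := by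
    by_contra hn
    rw [not_nontrivial_iff_subsingleton] at hn
    exact bot_ne_top (α := Subrepresentation ρ) (Subrepresentation.toSubmodule_injective (Subsingleton.elim _ _))
  obtain ⟨v, hv, hinv⟩ := exists_invariant L hH hQ ρ hw1
  exact (gen_eq_top_and_finrank L hH hQ ρ hw1 v hv hinv).2

theorem nonempty_equiv {V W : Type v} [AddCommGroup V] [Module k V] [FiniteDimensional k V] [AddCommGroup W] [Module k W]
    [FiniteDimensional k W] (ρ : Representation k Γ V) (σ : Representation k Γ W) [ρ.IsIrreducible] [σ.IsIrreducible]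
    (h1 : ∀ (z : kˣ) (w : V), ρ (ι z) w = (z : k) • w) (h2 : ∀ (z : kˣ) (w : W), σ (ι z) w = (z : k) • w) :
    Nonempty (ρ.Equiv σ) := by
  have nt : ∀ {U : Type v} [AddCommGroup U] [Module k U] (τ : Representation k Γ U) [τ.IsIrreducible], Nontrivial U := by
    intro U _ _ τ _
    by_contra hn
    rw [not_nontrivial_iff_subsingleton] at hn
    exact bot_ne_top (α := Subrepresentation τ) (Subrepresentation.toSubmodule_injective (Subsingleton.elim _ _))
  haveI := nt ρ
  haveI := nt σ
  obtain ⟨v, hv, hvi⟩ := exists_invariant L hH hQ ρ h1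
  obtain ⟨w, hw, hwi⟩ := exists_invariant L hH hQ σ h2
  let τ : Representation k Γ (V × W) :=
    { toFun := fun g => (ρ g).prodMap (σ g)
      map_one' := by ext <;> simp
      map_mul' := fun a b => by ext <;> simp }
  have h3 : ∀ (z : kˣ) (x : V × W), τ (ι z) x = (z : k) • x := fun z x => Prod.ext (h1 z x.1) (h2 z x.2)
  have hti : ∀ h : H, τ (h : Γ) (v, w) = (v, w) := fun h => Prod.ext (hvi h) (hwi h)
  let U := gen L τ h3 (v, w) hti
  have hVc := gen_eq_top_and_finrank L hH hQ ρ h1 v hv hvi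
  have hWc := gen_eq_top_and_finrank L hH hQ σ h2 w hw hwi
  let a : U.toSubmodule →ₗ[k] V := LinearMap.fst k V W ∘ₗ U.toSubmodule.subtype
  let b : U.toSubmodule →ₗ[k] W := LinearMap.snd k V W ∘ₗ U.toSubmodule.subtype
  have hU : Module.finrank k U.toSubmodule ≤ Fintype.card (Γ ⧸ big H ι L) := finrank_range_le_card _
  have hsa : Function.Surjective a := by
    rw [← LinearMap.range_eq_top, eq_top_iff, LinearMap.range_comp, Submodule.range_subtype]
    show ⊤ ≤ Submodule.map _ (Submodule.span k _)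
    rw [Submodule.map_span, ← Set.range_comp]
    exact (congrArg Subrepresentation.toSubmodule hVc.1).ge
  have hsb : Function.Surjective b := by
    rw [← LinearMap.range_eq_top, eq_top_iff, LinearMap.range_comp, Submodule.range_subtype]
    show ⊤ ≤ Submodule.map _ (Submodule.span k _)
    rw [Submodule.map_span, ← Set.range_comp]
    exact (congrArg Subrepresentation.toSubmodule hWc.1).ge
  have hUa : Module.finrank k U.toSubmodule = Module.finrank k V :=
    le_antisymm (hU.trans hVc.2.ge) (LinearMap.finrank_le_finrank_of_surjective hsa)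
  have hia : Function.Injective a := (LinearMap.injective_iff_surjective_of_finrank_eq_finrank hUa).2 hsa
  have hUb : Module.finrank k U.toSubmodule = Module.finrank k W := by rw [hUa, hVc.2, hWc.2]
  have hib : Function.Injective b := (LinearMap.injective_iff_surjective_of_finrank_eq_finrank hUb).2 hsb
  let ea := LinearEquiv.ofBijective a ⟨hia, hsa⟩
  let e := ea.symm.trans (LinearEquiv.ofBijective b ⟨hib, hsb⟩)
  let T : ρ.IntertwiningMap σ := ⟨e.toLinearMap, fun g => LinearMap.ext fun x => by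
    show b (ea.symm (ρ g x)) = σ g (b (ea.symm x))
    have : ea.symm (ρ g x) = ⟨τ g (ea.symm x).1, U.apply_mem_toSubmodule g (ea.symm x).2⟩ := by
      rw [LinearEquiv.symm_apply_eq]
      show ρ g x = ρ g (a (ea.symm x))
      rw [show a (ea.symm x) = x from ea.apply_symm_apply x]
    rw [this]; rfl⟩
  exact ⟨T.ofBijective e.bijective⟩

end rep

theorem exists_irreducible_aux {W : Type u} [AddCommGroup W] [Module k W] [FiniteDimensional k W] [Nontrivial W]
    (ρ : Representation k Γ W) : ∃ U : Subrepresentation ρ, U.toRepresentation.IsIrreducible := by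
  obtain ⟨M, ⟨⟨U, rfl⟩, hU0⟩, hmin⟩ := (wellFounded_lt (α := Submodule k W)).has_min
    {M | (∃ U : Subrepresentation ρ, U.toSubmodule = M) ∧ M ≠ ⊥} ⟨⊤, ⟨⊤, rfl⟩, top_ne_bot⟩
  refine ⟨U, ?_⟩
  haveI : Nontrivial (Subrepresentation U.toRepresentation) := by
    obtain ⟨x, hx, hx0⟩ := (Submodule.ne_bot_iff _).1 hU0
    refine ⟨⊥, ⊤, fun h => hx0 ?_⟩
    have : (⟨x, hx⟩ : U.toSubmodule) ∈ (⊥ : Subrepresentation U.toRepresentation).toSubmodule := by
      rw [h]; exact Submodule.mem_top
    exact congrArg Subtype.val ((Submodule.mem_bot k).1 this)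
  refine ⟨fun S => ?_⟩
  let S' : Subrepresentation ρ := ⟨S.toSubmodule.map U.toSubmodule.subtype, fun g _ hx => by
    obtain ⟨y, hy, rfl⟩ := hx
    exact ⟨_, S.apply_mem_toSubmodule g hy, rfl⟩⟩
  by_cases h0 : S'.toSubmodule = ⊥
  · left
    exact Subrepresentation.toSubmodule_injective (Submodule.map_injective_of_injective U.toSubmodule.injective_subtype
      (h0.trans (Submodule.map_bot _).symm))
  · right
    have h1 : S'.toSubmodule = U.toSubmodule :=
      eq_of_le_of_not_lt (Submodule.map_subtype_le _ _) (hmin _ ⟨⟨S', rfl⟩, h0⟩)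
    exact Subrepresentation.toSubmodule_injective (Submodule.map_injective_of_injective U.toSubmodule.injective_subtype
      (h1.trans (Submodule.map_subtype_top _).symm))

/-- functions transforming by the tautological character -/
def indModule (L : Level ι H) : Submodule k (Γ → k) where
  carrier := {f | ∀ h ∈ H, ∀ (z : kˣ) (x : Γ), f (h * ι z * x) = (z : k) * f x}
  add_mem' ha hb h hh z x := by simp only [Pi.add_apply, ha h hh z x, hb h hh z x, mul_add]
  zero_mem' := fun _ _ _ _ => by simp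
  smul_mem' c f hf h hh z x := by simp only [Pi.smul_apply, smul_eq_mul, hf h hh z x]; ring

/-- right translation -/
def indRep (L : Level ι H) : Representation k Γ (indModule L) where
  toFun g :=
    { toFun := fun f => ⟨fun x => f.1 (x * g), fun h hh z x => by
        show f.1 (h * ι z * x * g) = _
        rw [mul_assoc (h * ι z), f.2 h hh z]⟩
      map_add' := fun _ _ => rfl
      map_smul' := fun _ _ => rfl }
  map_one' := LinearMap.ext fun f => Subtype.ext (funext fun x => congrArg f.1 (mul_one x))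
  map_mul' a b := LinearMap.ext fun f => Subtype.ext (funext fun x => congrArg f.1 (mul_assoc x a b).symm)

theorem exists_weightOne [IsAlgClosed k] (L : Level ι H) [Finite (Γ ⧸ ι.range)] :
    ∃ (W : Type u) (_ : AddCommGroup W) (_ : Module k W) (_ : FiniteDimensional k W) (_ : Nontrivial W)
      (ρ : Representation k Γ W), ∀ (z : kˣ) (w : W), ρ (ι z) w = (z : k) • w := by
  classical
  haveI := finite_quot L
  haveI : FiniteDimensional k (indModule L) := by
    let ev : indModule L →ₗ[k] (Γ ⧸ big H ι L → k) :=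
      LinearMap.pi fun q => LinearMap.proj (R := k) (φ := fun _ : Γ => k) q.out⁻¹ ∘ₗ (indModule L).subtype
    refine FiniteDimensional.of_injective ev ((injective_iff_map_eq_zero _).2 fun f hf => Subtype.ext (funext fun x => ?_))
    obtain ⟨⟨a, h, hh, z, rfl⟩, ha⟩ := QuotientGroup.mk_out_eq_mul (big H ι L) x⁻¹
    have h1 : f.1 ((((x⁻¹ : Γ) : Γ ⧸ big H ι L)).out⁻¹) = 0 := congrFun hf _
    have h2 : x = h * ι z * (((x⁻¹ : Γ) : Γ ⧸ big H ι L)).out⁻¹ := by rw [ha]; simp only [mul_inv_rev, inv_inv]; group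
    rw [h2, f.2 h hh z, h1, mul_zero]
    rfl
  -- the character supported on `H·kˣ`
  have huniq : ∀ {h h' : Γ} {z z' : kˣ}, h ∈ H → h' ∈ H → h * ι z = h' * ι z' → z = z' := by
    intro h h' z z' hh hh' he
    have he' : h'⁻¹ * h = ι (z' * z⁻¹) := by
      rw [map_mul, map_inv, eq_mul_inv_iff_mul_eq, mul_assoc, he, inv_mul_cancel_left]
    have : ι (z' * z⁻¹) ∈ H ⊓ ι.range := Subgroup.mem_inf.2 ⟨he' ▸ mul_mem (inv_mem hh') hh, _, rfl⟩
    rw [L.disj, Subgroup.mem_bot, map_eq_one_iff ι L.inj, mul_inv_eq_one] at this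
    exact this.symm
  let χ : Γ → k := fun x => if hx : x ∈ big H ι L then (((hx : ∃ h ∈ H, ∃ z, x = h * ι z).choose_spec.2.choose : kˣ) : k) else 0
  have hχ : ∀ h ∈ H, ∀ z : kˣ, χ (h * ι z) = z := fun h hh z => by
    have hx : h * ι z ∈ big H ι L := ⟨h, hh, z, rfl⟩
    simp only [χ, dif_pos hx]
    obtain ⟨hh', -⟩ := (hx : ∃ h' ∈ H, ∃ z', h * ι z = h' * ι z').choose_spec
    exact congrArg Units.val (huniq hh' hh (hx : ∃ h' ∈ H, ∃ z', h * ι z = h' * ι z').choose_spec.2.choose_spec.symm)
  have hmem : χ ∈ indModule L := fun h hh z x => by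
    by_cases hx : x ∈ big H ι L
    · obtain ⟨h', hh', z', rfl⟩ := hx
      rw [show h * ι z * (h' * ι z') = h * h' * ι (z * z') by
        rw [map_mul, mul_assoc h, ← mul_assoc (ι z), ← mul_iota L z h']; simp only [mul_assoc],
        hχ _ (mul_mem hh hh'), hχ _ hh', Units.val_mul]
    · have : h * ι z * x ∉ big H ι L := fun hc => hx (by
        have := mul_mem (inv_mem (⟨h, hh, z, rfl⟩ : h * ι z ∈ big H ι L)) hc
        rwa [inv_mul_cancel_left] at this)
      simp only [χ, dif_neg hx, dif_neg this, mul_zero]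
  haveI : Nontrivial (indModule L) := ⟨⟨χ, hmem⟩, 0, fun h0 => by
    have h1 : χ (1 * ι 1) = 0 := congrFun (congrArg Subtype.val h0) _
    rw [hχ 1 (one_mem _)] at h1
    exact one_ne_zero h1⟩
  refine ⟨indModule L, inferInstance, inferInstance, inferInstance, inferInstance, indRep L, fun z f => Subtype.ext (funext fun x => ?_)⟩
  show f.1 (x * ι z) = (z : k) * f.1 x
  rw [mul_iota L, ← one_mul (ι z), f.2 1 (one_mem _)]

end Groth.Agent.Theta52
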