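import Mathlib

/-! Weight-one representations of finite Heisenberg extensions. -/

set_option autoImplicit false
set_option linter.style.haveILetI false
set_option linter.unusedSectionVars false

universe u v

namespace Groth.Agent.Theta52

open scoped commutatorElement

variable {k : Type u} [Field k] {Γ : Type u} [Group Γ] {ι : kˣ →* Γ}

/-- The data of a level subgroup. -/
structure Level (ι : kˣ →* Γ) (H : Subgroup Γ) : Prop where
  inj : Function.Injective ι
  cent : ι.range = Subgroup.center Γ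
  comm : commutator Γ ≤ ι.range
  disj : H ⊓ ι.range = ⊥
  maxl : ∀ H' : Subgroup Γ, H' ⊓ ι.range = ⊥ → H ≤ H' → H' = H

theorem mul_iota {H : Subgroup Γ} (L : Level ι H) (z : kˣ) (x : Γ) : x * ι z = ι z * x :=
  Subgroup.mem_center_iff.1 (L.cent ▸ ⟨z, rfl⟩) x

/-- the commutator pairing -/
noncomputable def cpair {H : Subgroup Γ} (L : Level ι H) (x y : Γ) : kˣ :=
  (show ∃ u, ι u = ⁅x, y⁆ from L.comm (Subgroup.commutator_mem_commutator (Subgroup.mem_top x) (Subgroup.mem_top y))).choose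

variable {H : Subgroup Γ} (L : Level ι H)

theorem iota_cpair (x y : Γ) : ι (cpair L x y) = ⁅x, y⁆ :=
  (show ∃ u, ι u = ⁅x, y⁆ from L.comm (Subgroup.commutator_mem_commutator (Subgroup.mem_top x) (Subgroup.mem_top y))).choose_spec

theorem cpair_eq_one_iff (x y : Γ) : cpair L x y = 1 ↔ x * y = y * x := by
  rw [← commutatorElement_eq_one_iff_mul_comm, ← iota_cpair L, map_eq_one_iff ι L.inj]

theorem cpair_mul_left (a b y : Γ) : cpair L (a * b) y = cpair L a y * cpair L b y := by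
  apply L.inj
  rw [map_mul, iota_cpair, iota_cpair, iota_cpair, show ⁅a * b, y⁆ = a * ⁅b, y⁆ * a⁻¹ * ⁅a, y⁆ by
    simp only [commutatorElement_def]; group, ← iota_cpair L b y, mul_iota L _ a, mul_assoc (ι _) a a⁻¹, mul_inv_cancel, mul_one, mul_iota L]

theorem cpair_mul_right (x a b : Γ) : cpair L x (a * b) = cpair L x a * cpair L x b := by
  apply L.inj
  rw [map_mul, iota_cpair, iota_cpair, iota_cpair, show ⁅x, a * b⁆ = ⁅x, a⁆ * (a * ⁅x, b⁆ * a⁻¹) by
    simp only [commutatorElement_def]; group, ← iota_cpair L x b, mul_iota L _ a, mul_assoc (ι _) a a⁻¹, mul_inv_cancel, mul_one]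

include L in
theorem H_comm {a b : Γ} (ha : a ∈ H) (hb : b ∈ H) : a * b = b * a := by
  rw [← commutatorElement_eq_one_iff_mul_comm]
  have : ⁅a, b⁆ ∈ H ⊓ ι.range := Subgroup.mem_inf.2 ⟨by
    rw [commutatorElement_def]; exact mul_mem (mul_mem (mul_mem ha hb) (inv_mem ha)) (inv_mem hb),
    L.comm (Subgroup.commutator_mem_commutator (Subgroup.mem_top a) (Subgroup.mem_top b))⟩
  rwa [L.disj, Subgroup.mem_bot] at this

/-- the subgroup `H·kˣ` -/
def big (H : Subgroup Γ) (ι : kˣ →* Γ) (L : Level ι H) : Subgroup Γ where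
  carrier := {x | ∃ h ∈ H, ∃ z, x = h * ι z}
  one_mem' := ⟨1, one_mem _, 1, by simp⟩
  mul_mem' := by
    rintro _ _ ⟨h, hh, z, rfl⟩ ⟨h', hh', z', rfl⟩
    exact ⟨h * h', mul_mem hh hh', z * z', by
      rw [map_mul, mul_assoc h, ← mul_assoc (ι z), ← mul_iota L z h', mul_assoc, ← mul_assoc h]⟩
  inv_mem' := by
    rintro _ ⟨h, hh, z, rfl⟩
    exact ⟨h⁻¹, inv_mem hh, z⁻¹, by rw [mul_inv_rev, ← map_inv, mul_iota L]⟩

theorem iota_mem_big (z : kˣ) : ι z ∈ big H ι L := ⟨1, one_mem _, z, (one_mul _).symm⟩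

theorem mem_big_of_mem {h : Γ} (hh : h ∈ H) : h ∈ big H ι L := ⟨h, hh, 1, by rw [map_one, mul_one]⟩

theorem range_le_big : ι.range ≤ big H ι L := fun _ ⟨z, hz⟩ => hz ▸ iota_mem_big L z

variable [Finite (Γ ⧸ ι.range)]

include L in
theorem finite_quot : Finite (Γ ⧸ big H ι L) :=
  Finite.of_surjective (Quotient.map' id fun a b hab => by
      rw [QuotientGroup.leftRel_apply] at hab ⊢
      exact range_le_big L hab : Γ ⧸ ι.range → Γ ⧸ big H ι L)
    fun q => Quotient.inductionOn' q fun a => ⟨Quotient.mk'' a, rfl⟩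

include L in
theorem finite_H : Finite H :=
  Finite.of_injective (fun h : H => ((h : Γ) : Γ ⧸ ι.range)) fun a b hab => by
    have : (a : Γ)⁻¹ * b ∈ H ⊓ ι.range := Subgroup.mem_inf.2 ⟨mul_mem (inv_mem a.2) b.2, QuotientGroup.eq.1 hab⟩
    rw [L.disj, Subgroup.mem_bot, inv_mul_eq_one] at this
    exact Subtype.ext this

/-- An element pairing trivially with `H` lies in `H·kˣ`. -/
theorem mem_big_of_cpair [IsAlgClosed k] (x : Γ) (hx : ∀ h ∈ H, cpair L h x = 1) : x ∈ big H ι L := by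
  by_contra hxb
  haveI : (ι.range).Normal := L.cent ▸ inferInstance
  -- the order of x modulo the big subgroup
  have hex : ∃ m : ℕ, 0 < m ∧ x ^ m ∈ big H ι L := by
    obtain ⟨m, hm, hm'⟩ := isOfFinOrder_iff_pow_eq_one.1 (isOfFinOrder_of_finite ((x : Γ) : Γ ⧸ ι.range))
    rw [← QuotientGroup.mk_pow, QuotientGroup.eq_one_iff] at hm'
    exact ⟨m, hm, range_le_big L hm'⟩
  classical
  obtain ⟨hm, hmem⟩ := Nat.find_spec hex
  set m := Nat.find hex
  obtain ⟨h, hh, z, hz⟩ := hmem
  obtain ⟨z', hz'⟩ := IsAlgClosed.exists_pow_nat_eq ((z⁻¹ : kˣ) : k) hm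
  have hz'0 : z' ≠ 0 := fun h0 => by
    rw [h0, zero_pow hm.ne'] at hz'
    exact (z⁻¹).ne_zero hz'.symm
  let w : kˣ := Units.mk0 z' hz'0
  have hw : w ^ m = z⁻¹ := Units.ext (by simpa [w] using hz')
  let x' := x * ι w
  have hx'm : x' ^ m = h := by
    rw [(show Commute x (ι w) from mul_iota L w x).mul_pow, hz, ← map_pow, hw, mul_assoc, ← map_mul, mul_inv_cancel, map_one, mul_one]
  have hcomm : ∀ a ∈ H, a * x' = x' * a := fun a ha => by
    rw [← mul_assoc, (cpair_eq_one_iff L a x).1 (hx a ha), mul_assoc, mul_iota L, mul_assoc]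
  let H' : Subgroup Γ :=
    { carrier := {g | ∃ a ∈ H, ∃ j : ℤ, g = a * x' ^ j}
      one_mem' := ⟨1, one_mem _, 0, by simp⟩
      mul_mem' := by
        rintro _ _ ⟨a, ha, i, rfl⟩ ⟨b, hb, j, rfl⟩
        exact ⟨a * b, mul_mem ha hb, i + j, by
          rw [zpow_add, mul_assoc a, ← mul_assoc (x' ^ i), ← ((show Commute b x' from hcomm b hb).zpow_right i).eq]; simp only [mul_assoc]⟩
      inv_mem' := by
        rintro _ ⟨a, ha, i, rfl⟩
        exact ⟨a⁻¹, inv_mem ha, -i, by
          rw [mul_inv_rev, zpow_neg]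
          exact ((show Commute a x' from hcomm a ha).zpow_right i).inv_inv.eq.symm⟩ }
  have hH' : H' ⊓ ι.range = ⊥ := by
    refine eq_bot_iff.2 fun g ⟨⟨a, ha, j, hg⟩, hgz⟩ => ?_
    have hj : x ^ j ∈ big H ι L := by
      have h1 : x ^ j = a⁻¹ * g * (ι w ^ j)⁻¹ := by
        rw [hg, (show Commute x (ι w) from mul_iota L w x).mul_zpow]
        group
      rw [h1]
      exact mul_mem (mul_mem (inv_mem (mem_big_of_mem L ha)) (range_le_big L hgz))
        (inv_mem (zpow_mem (iota_mem_big L w) j))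
    have hr : x ^ (j % (m : ℤ)) ∈ big H ι L := by
      rw [Int.emod_def, zpow_sub, zpow_mul, zpow_natCast]
      exact mul_mem hj (inv_mem (zpow_mem (Nat.find_spec hex).2 _))
    obtain ⟨r, hr'⟩ : ∃ r : ℕ, j % (m : ℤ) = r := ⟨_, (Int.toNat_of_nonneg (Int.emod_nonneg j (by omega))).symm⟩
    rw [hr', zpow_natCast] at hr
    have hr0 : r = 0 := by
      by_contra hne
      have h2 := Int.emod_lt_of_pos j (show (0 : ℤ) < m by omega)
      exact Nat.find_min hex (show r < m by omega) ⟨Nat.pos_of_ne_zero hne, hr⟩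
    obtain ⟨c, rfl⟩ : (m : ℤ) ∣ j := Int.dvd_of_emod_eq_zero (by rw [hr', hr0, Nat.cast_zero])
    rw [zpow_mul, zpow_natCast, hx'm] at hg
    have : g ∈ H ⊓ ι.range := ⟨hg ▸ mul_mem ha (zpow_mem hh c), hgz⟩
    rwa [L.disj] at this
  have := L.maxl H' hH' fun a ha => ⟨a, ha, 0, by simp⟩
  have hx'H : x' ∈ H := this ▸ ⟨1, one_mem _, 1, by simp⟩
  refine hxb ?_
  have := mul_mem (mem_big_of_mem L hx'H) (inv_mem (iota_mem_big L w))
  simpa [x'] using this

theorem cpair_big (h : Γ) (hh : h ∈ H) {a : Γ} (ha : a ∈ big H ι L) : cpair L h a = 1 := by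
  obtain ⟨b, hb, z, rfl⟩ := ha
  rw [cpair_mul_right, (cpair_eq_one_iff L h b).2 (H_comm L hh hb), (cpair_eq_one_iff L h _).2 (mul_iota L z h), one_mul]

theorem cpair_out_mk (h : Γ) (hh : h ∈ H) (g : Γ) :
    cpair L h ((g : Γ ⧸ big H ι L).out) = cpair L h g := by
  obtain ⟨a, ha⟩ := QuotientGroup.mk_out_eq_mul (big H ι L) g
  rw [ha, cpair_mul_right, cpair_big L h hh a.2, mul_one]

variable [IsAlgClosed k]

/-- orthogonality in `H` -/
theorem sum_H [Fintype H] (y : Γ) (hy : y ∉ big H ι L) : ∑ h : H, (cpair L h y : k) = 0 := by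
  obtain ⟨h₀, hh₀, hne⟩ : ∃ h₀ ∈ H, cpair L h₀ y ≠ 1 := by
    by_contra hcon
    push Not at hcon
    exact hy (mem_big_of_cpair L y hcon)
  set S := ∑ h : H, (cpair L h y : k)
  have key : (cpair L h₀ y : k) * S = S := by
    rw [Finset.mul_sum]
    exact Fintype.sum_equiv (Equiv.mulLeft (⟨h₀, hh₀⟩ : H)) _ _ fun h => by
      simp [cpair_mul_left, Units.val_mul]
  by_contra hS
  exact hne (Units.ext (by simpa using (mul_eq_right₀ hS).1 key))

/-- orthogonality in `Γ/A` -/
theorem sum_Q [Fintype (Γ ⧸ big H ι L)] (h : Γ) (hh : h ∈ H) (hne : h ≠ 1) :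
    ∑ q : Γ ⧸ big H ι L, ((cpair L h q.out)⁻¹ : kˣ).val = 0 := by
  obtain ⟨g, hg⟩ : ∃ g, cpair L h g ≠ 1 := by
    by_contra hcon
    push Not at hcon
    have : h ∈ H ⊓ ι.range := ⟨hh, L.cent ▸ Subgroup.mem_center_iff.2 fun g => ((cpair_eq_one_iff L h g).1 (hcon g)).symm⟩
    rw [L.disj, Subgroup.mem_bot] at this
    exact hne this
  set S := ∑ q : Γ ⧸ big H ι L, ((cpair L h q.out)⁻¹ : kˣ).val
  have key : ((cpair L h g)⁻¹ : kˣ).val * S = S := by
    rw [Finset.mul_sum]
    refine Fintype.sum_equiv (MulAction.toPerm g) _ _ fun q => ?_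
    induction q using QuotientGroup.induction_on with
    | _ y =>
      rw [MulAction.toPerm_apply, MulAction.Quotient.smul_mk, cpair_out_mk L h hh, cpair_out_mk L h hh, smul_eq_mul,
        cpair_mul_right, mul_inv, Units.val_mul]
  by_contra hS
  exact hg (inv_eq_one.1 (Units.ext (by simpa using (mul_eq_right₀ hS).1 key)))

/-- `|H| = [Γ : H·kˣ]` -/
theorem card_H_eq_index [Fintype H] [Fintype (Γ ⧸ big H ι L)]
    (hH : (Fintype.card H : k) ≠ 0) (hQ : (Fintype.card (Γ ⧸ big H ι L) : k) ≠ 0) :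
    Fintype.card H = Fintype.card (Γ ⧸ big H ι L) := by
  classical
  let M : Matrix (Γ ⧸ big H ι L) H k := Matrix.of fun q h => (cpair L h q.out : k)
  let M' : Matrix H (Γ ⧸ big H ι L) k := Matrix.of fun h q => ((cpair L h q.out)⁻¹ : kˣ).val
  have h1 : M * M' = (Fintype.card H : k) • 1 := by
    ext q q'
    rw [Matrix.mul_apply, Matrix.smul_apply, Matrix.one_apply]
    simp only [M, M', Matrix.of_apply]
    split_ifs with hqq
    · subst hqq; simp
    · rw [smul_zero]
      have hinv : ∀ h : H, (cpair L h (q'.out⁻¹ * q.out) : k) = (cpair L h q.out : k) * ((cpair L h q'.out)⁻¹ : kˣ).val := fun h => by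
        rw [← Units.val_mul]; congr 1
        rw [eq_mul_inv_iff_mul_eq, mul_comm, ← cpair_mul_right, mul_inv_cancel_left]
      simp only [← hinv]
      refine sum_H L _ fun hmem => hqq ?_
      rw [← q.out_eq, ← q'.out_eq]
      exact (QuotientGroup.eq.2 hmem).symm
  have h2 : M' * M = (Fintype.card (Γ ⧸ big H ι L) : k) • 1 := by
    ext h h'
    rw [Matrix.mul_apply, Matrix.smul_apply, Matrix.one_apply]
    simp only [M, M', Matrix.of_apply]
    split_ifs with hhh
    · subst hhh; simp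
    · rw [smul_zero]
      have hinv : ∀ y, ((cpair L ((h : Γ) * (h' : Γ)⁻¹) y)⁻¹ : kˣ).val = ((cpair L h y)⁻¹ : kˣ).val * (cpair L h' y : k) := fun y => by
        rw [← Units.val_mul]; congr 1
        rw [inv_eq_iff_eq_inv, mul_inv, inv_inv, eq_mul_inv_iff_mul_eq, ← cpair_mul_left, inv_mul_cancel_right]
      simp only [← hinv]
      exact sum_Q L _ (mul_mem h.2 (inv_mem h'.2)) fun h0 => hhh (Subtype.ext (mul_inv_eq_one.1 h0))
  have i1 : Function.Injective M.mulVecLin := fun a b hab => by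
    have := congrArg M'.mulVec hab
    simp only [Matrix.mulVecLin_apply, Matrix.mulVec_mulVec, h2, Matrix.smul_mulVec, Matrix.one_mulVec] at this
    exact smul_right_injective _ hQ this
  have i2 : Function.Injective M'.mulVecLin := fun a b hab => by
    have := congrArg M.mulVec hab
    simp only [Matrix.mulVecLin_apply, Matrix.mulVec_mulVec, h1, Matrix.smul_mulVec, Matrix.one_mulVec] at this
    exact smul_right_injective _ hH this
  have a := LinearMap.finrank_le_finrank_of_injective i1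
  have b := LinearMap.finrank_le_finrank_of_injective i2
  simp only [Module.finrank_pi] at a b
  omega

section rep

variable [Fintype H] [Fintype (Γ ⧸ big H ι L)] {W : Type v} [AddCommGroup W] [Module k W] (ρ : Representation k Γ W)
  (hw1 : ∀ (z : kˣ) (w : W), ρ (ι z) w = (z : k) • w)

include hw1

theorem rho_H_mul (h y : Γ) (w : W) : ρ h (ρ y w) = (cpair L h y : k) • ρ y (ρ h w) := by
  rw [← Module.End.mul_apply, ← map_mul, show h * y = ι (cpair L h y) * (y * h) by
    rw [iota_cpair, commutatorElement_def]; group, map_mul, Module.End.mul_apply, hw1, map_mul, Module.End.mul_apply]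

/-- projection to an eigenspace -/
noncomputable def proj (q : Γ ⧸ big H ι L) : W →ₗ[k] W :=
  ∑ h : H, (((cpair L h q.out)⁻¹ : kˣ).val) • ρ (h : Γ)

theorem sum_proj (w : W) : ∑ q, proj L ρ q w = (Fintype.card (Γ ⧸ big H ι L) : k) • w := by
  classical
  simp only [proj, LinearMap.sum_apply, LinearMap.smul_apply]
  rw [Finset.sum_comm, Finset.sum_eq_single (1 : H)]
  · have h1 : ∀ y : Γ, cpair L 1 y = 1 := fun y => (cpair_eq_one_iff L _ y).2 (by simp)
    simp [h1, ← Nat.cast_smul_eq_nsmul k]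
  · intro h _ hne
    rw [← Finset.sum_smul, sum_Q L (h : Γ) h.2 (fun h0 => hne (Subtype.ext h0)), zero_smul]
  · simp

theorem exists_invariant_proj (q : Γ ⧸ big H ι L) (w : W) :
    ∃ w₁, (∀ h : H, ρ (h : Γ) w₁ = w₁) ∧ ρ q.out w₁ = proj L ρ q w := by
  refine ⟨ρ q.out⁻¹ (proj L ρ q w), fun h => ?_, by rw [← Module.End.mul_apply, ← map_mul, mul_inv_cancel, map_one, Module.End.one_apply]⟩
  have hE : ρ (h : Γ) (proj L ρ q w) = (cpair L h q.out : k) • proj L ρ q w := by
    simp only [proj, LinearMap.sum_apply, LinearMap.smul_apply, map_sum, map_smul, Finset.smul_sum]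
    refine Fintype.sum_equiv (Equiv.mulLeft h) _ _ fun h' => ?_
    rw [← Module.End.mul_apply, ← map_mul, smul_smul, Equiv.coe_mulLeft, Subgroup.coe_mul, cpair_mul_left, ← Units.val_mul]
    congr 2
    simp [mul_inv, mul_comm, mul_left_comm]
  rw [rho_H_mul L ρ hw1, hE, map_smul, smul_smul, ← Units.val_mul, ← cpair_mul_right, inv_mul_cancel,
    (cpair_eq_one_iff L _ 1).2 (by simp), Units.val_one, one_smul]

theorem proj_translate (w₁ : W) (hinv : ∀ h : H, ρ (h : Γ) w₁ = w₁) (q q' : Γ ⧸ big H ι L) [Decidable (q = q')] :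
    proj L ρ q (ρ q'.out w₁) = if q = q' then (Fintype.card H : k) • ρ q'.out w₁ else 0 := by
  simp only [proj, LinearMap.sum_apply, LinearMap.smul_apply, rho_H_mul L ρ hw1, hinv, smul_smul]
  rw [← Finset.sum_smul]
  split_ifs with hqq
  · subst hqq
    congr 1
    simp
  · have hinv' : ∀ h : H, (((cpair L h q.out)⁻¹ : kˣ).val) * (cpair L h q'.out : k) = (cpair L h (q.out⁻¹ * q'.out) : k) := fun h => by
      rw [← Units.val_mul]; congr 1
      rw [inv_mul_eq_iff_eq_mul, ← cpair_mul_right, mul_inv_cancel_left]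
    simp only [hinv']
    rw [sum_H L _ fun hmem => hqq ?_, zero_smul]
    rw [← q.out_eq, ← q'.out_eq]
    exact QuotientGroup.eq.2 hmem

/-- translates of invariant vectors -/
noncomputable def assemble : ((Γ ⧸ big H ι L) → Representation.invariants (ρ.comp H.subtype)) →ₗ[k] W :=
  ∑ q, (ρ q.out) ∘ₗ (Submodule.subtype _) ∘ₗ LinearMap.proj q

theorem assemble_bijective (hH : (Fintype.card H : k) ≠ 0) (hQ : (Fintype.card (Γ ⧸ big H ι L) : k) ≠ 0) :
    Function.Bijective (assemble L ρ) := by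
  classical
  constructor
  · refine (injective_iff_map_eq_zero _).2 fun c hc => funext fun q => ?_
    have h0 := congrArg (proj L ρ q) hc
    simp only [assemble, LinearMap.sum_apply, LinearMap.comp_apply, LinearMap.proj_apply, Submodule.subtype_apply, map_sum, map_zero] at h0
    simp only [proj_translate L ρ hw1 _ (fun h => (c _).2 h)] at h0
    rw [Finset.sum_ite_eq, if_pos (Finset.mem_univ _), smul_eq_zero, or_iff_right hH] at h0
    have := congrArg (ρ q.out⁻¹) h0
    rw [← Module.End.mul_apply, ← map_mul, inv_mul_cancel, map_one, Module.End.one_apply, map_zero] at this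
    exact Subtype.ext this
  · intro w
    choose v hv hv' using fun q => exists_invariant_proj L ρ hw1 q w
    refine ⟨(Fintype.card (Γ ⧸ big H ι L) : k)⁻¹ • fun q => ⟨v q, hv q⟩, ?_⟩
    rw [map_smul]
    have : assemble L ρ (fun q => ⟨v q, hv q⟩) = (Fintype.card (Γ ⧸ big H ι L) : k) • w := by
      rw [← sum_proj L ρ hw1 w]
      simp only [assemble, LinearMap.sum_apply, LinearMap.comp_apply, LinearMap.proj_apply, Submodule.subtype_apply, hv']
    rw [this, smul_smul, inv_mul_cancel₀ hQ, one_smul]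

theorem rho_big_invariant (w₁ : W) (hinv : ∀ h : H, ρ (h : Γ) w₁ = w₁) (a : Γ) (ha : a ∈ big H ι L) :
    ∃ c : k, ρ a w₁ = c • w₁ := by
  obtain ⟨h, hh, z, rfl⟩ := ha
  exact ⟨z, by rw [map_mul, Module.End.mul_apply, hw1, map_smul, hinv ⟨h, hh⟩]⟩

/-- the subrepresentation generated by an invariant vector is spanned by the coset translates -/
theorem rho_translate_mem (w₁ : W) (hinv : ∀ h : H, ρ (h : Γ) w₁ = w₁) (g : Γ) :
    ∀ x ∈ Submodule.span k (Set.range fun q : Γ ⧸ big H ι L => ρ q.out w₁),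
      ρ g x ∈ Submodule.span k (Set.range fun q : Γ ⧸ big H ι L => ρ q.out w₁) := by
  intro x hx
  induction hx using Submodule.span_induction with
  | mem x hx =>
    obtain ⟨q, rfl⟩ := hx
    obtain ⟨a, ha⟩ := QuotientGroup.mk_out_eq_mul (big H ι L) (g * q.out)
    obtain ⟨c, hc⟩ := rho_big_invariant L ρ hw1 w₁ hinv _ (inv_mem a.2)
    show ρ g (ρ q.out w₁) ∈ _
    rw [← Module.End.mul_apply, ← map_mul, show g * q.out = ((g * q.out : Γ) : Γ ⧸ big H ι L).out * (a : Γ)⁻¹ by
      rw [ha, mul_inv_cancel_right], map_mul, Module.End.mul_apply, hc, map_smul]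
    exact Submodule.smul_mem _ _ (Submodule.subset_span ⟨_, rfl⟩)
  | zero => simp
  | add a b _ _ ha hb => rw [map_add]; exact add_mem ha hb
  | smul c a _ ha => rw [map_smul]; exact Submodule.smul_mem _ c ha

/-- the generated subrepresentation -/
noncomputable def gen (w₁ : W) (hinv : ∀ h : H, ρ (h : Γ) w₁ = w₁) : Subrepresentation ρ where
  toSubmodule := Submodule.span k (Set.range fun q : Γ ⧸ big H ι L => ρ q.out w₁)
  apply_mem_toSubmodule g _ hx := rho_translate_mem L ρ hw1 w₁ hinv g _ hx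

theorem mem_gen (w₁ : W) (hinv : ∀ h : H, ρ (h : Γ) w₁ = w₁) : w₁ ∈ gen L ρ hw1 w₁ hinv := by
  obtain ⟨a, ha⟩ := QuotientGroup.mk_out_eq_mul (big H ι L) 1
  rw [one_mul] at ha
  obtain ⟨c, hc⟩ := rho_big_invariant L ρ hw1 w₁ hinv _ (inv_mem a.2)
  have h1 : ρ ((1 : Γ) : Γ ⧸ big H ι L).out (ρ (a : Γ)⁻¹ w₁) = w₁ := by
    rw [ha, ← Module.End.mul_apply, ← map_mul, mul_inv_cancel, map_one, Module.End.one_apply]
  show w₁ ∈ Submodule.span k _
  refine (congrArg (· ∈ Submodule.span k (Set.range fun q : Γ ⧸ big H ι L => ρ q.out w₁)) h1).mp ?_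
  rw [hc, map_smul]
  exact Submodule.smul_mem _ _ (Submodule.subset_span ⟨_, rfl⟩)

end rep

section avg

variable {W : Type v} [AddCommGroup W] [Module k W] (ρ : Representation k Γ W)
  (hw1 : ∀ (z : kˣ) (w : W), ρ (ι z) w = (z : k) • w)

include L hw1 in
/-- Maschke for weight-one representations. -/
theorem semisimple [Fintype (Γ ⧸ ι.range)] (hK : (Fintype.card (Γ ⧸ ι.range) : k) ≠ 0) :
    Representation.IsSemisimpleRepresentation ρ := by
  refine ⟨fun U => ?_⟩
  obtain ⟨p, hp⟩ : ∃ p : W →ₗ[k] W, (∀ w, p w ∈ U.toSubmodule) ∧ ∀ w ∈ U.toSubmodule, p w = w := by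
    obtain ⟨f, hf⟩ := U.toSubmodule.subtype.exists_leftInverse_of_injective (Submodule.ker_subtype _)
    exact ⟨U.toSubmodule.subtype ∘ₗ f, fun w => (f w).2, fun w hw => congrArg Subtype.val (LinearMap.congr_fun hf ⟨w, hw⟩)⟩
  let conj : Γ → (W →ₗ[k] W) := fun x => ρ x ∘ₗ p ∘ₗ ρ x⁻¹
  have hconj : ∀ (x : Γ) (z : kˣ), conj (x * ι z) = conj x := fun x z => by
    ext w
    simp only [conj, LinearMap.comp_apply]
    simp only [mul_inv_rev, ← map_inv, map_mul, Module.End.mul_apply, hw1, map_smul, smul_smul, Units.mul_inv, Units.inv_mul, one_smul]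
  have hout : ∀ x : Γ, conj ((x : Γ ⧸ ι.range).out) = conj x := fun x => by
    obtain ⟨⟨_, z, rfl⟩, hz⟩ := QuotientGroup.mk_out_eq_mul ι.range x
    rw [hz]; exact hconj x z
  let P : W →ₗ[k] W := (Fintype.card (Γ ⧸ ι.range) : k)⁻¹ • ∑ q : Γ ⧸ ι.range, conj q.out
  have hPU : ∀ w, P w ∈ U.toSubmodule := fun w => by
    simp only [P, LinearMap.smul_apply, LinearMap.sum_apply]
    exact Submodule.smul_mem _ _ (sum_mem fun q _ => U.apply_mem_toSubmodule _ (hp.1 _))
  have hPid : ∀ w ∈ U.toSubmodule, P w = w := fun w hw => by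
    simp only [P, LinearMap.smul_apply, LinearMap.sum_apply, conj, LinearMap.comp_apply]
    rw [Finset.sum_congr rfl (g := fun _ => w) fun q _ => by
      rw [hp.2 _ (U.apply_mem_toSubmodule _ hw), ← Module.End.mul_apply, ← map_mul, mul_inv_cancel, map_one, Module.End.one_apply],
      Finset.sum_const, Finset.card_univ, ← Nat.cast_smul_eq_nsmul k, smul_smul, inv_mul_cancel₀ hK, one_smul]
  have hPcomm : ∀ g w, P (ρ g w) = ρ g (P w) := fun g w => by
    simp only [P, LinearMap.smul_apply, LinearMap.sum_apply, map_smul, map_sum]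
    congr 1
    refine (Fintype.sum_equiv (MulAction.toPerm g) _ _ fun q => ?_).symm
    induction q using QuotientGroup.induction_on with
    | _ x =>
      rw [MulAction.toPerm_apply, MulAction.Quotient.smul_mk, hout, hout, smul_eq_mul]
      simp only [conj, LinearMap.comp_apply]
      rw [← Module.End.mul_apply (ρ (g * x)⁻¹), ← map_mul, show (g * x)⁻¹ * g = x⁻¹ by group, map_mul ρ g x, Module.End.mul_apply]
  refine ⟨⟨LinearMap.ker P, fun g v hv => by rw [LinearMap.mem_ker] at *; rw [hPcomm, hv, map_zero]⟩, ?_, ?_⟩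
  · rw [disjoint_iff_inf_le]
    rintro w ⟨h1, h2⟩
    show w ∈ (⊥ : Submodule k W)
    rw [Submodule.mem_bot, ← hPid w h1, LinearMap.mem_ker.1 h2]
  · rw [codisjoint_iff_le_sup]
    intro w _
    show w ∈ U.toSubmodule ⊔ LinearMap.ker P
    rw [← add_sub_cancel (P w) w]
    exact Submodule.add_mem_sup (hPU w) (by rw [LinearMap.mem_ker, map_sub, hPid _ (hPU w), sub_self])

end avg

end Groth.Agent.Theta52
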